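import Groth.Agent.SplitRibLib.Main
import Groth.Agent.ConormalInjLib.Comp
import Groth.Agent.ChevLib.Main

/-!
# Split first order thickenings with isomorphic conormal sheaves are isomorphic
-/

set_option autoImplicit false
set_option linter.style.haveILetI false
set_option linter.unusedSectionVars false

universe u

open AlgebraicGeometry CategoryTheory CategoryTheory.Limits Opposite TopologicalSpace

noncomputable section

namespace RibbonIsoLib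

theorem mres {Z : Scheme.{u}} (M : Z.Modules) {U V W : Z.Opens} (e : V ≤ U) (e' : W ≤ V) (x : Γ(M, U)) :
    M.presheaf.map (homOfLE e').op (M.presheaf.map (homOfLE e).op x) = M.presheaf.map (homOfLE (e'.trans e)).op x :=
  (congr($(M.presheaf.map_comp (homOfLE e).op (homOfLE e').op) x)).symm

theorem mres_self {Z : Scheme.{u}} (M : Z.Modules) {U : Z.Opens} (e : U ≤ U) (x : Γ(M, U)) :
    M.presheaf.map (homOfLE e).op x = x :=
  congr($(M.presheaf.map_id (op U)) x)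

theorem mres_bij {Z : Scheme.{u}} (M : Z.Modules) {U V : Z.Opens} (e : V ≤ U) (e' : U ≤ V) :
    Function.Bijective (M.presheaf.map (homOfLE e).op) :=
  Function.bijective_iff_has_inverse.2 ⟨M.presheaf.map (homOfLE e').op,
    fun x => (mres M e e' x).trans (mres_self M _ x), fun x => (mres M e' e x).trans (mres_self M _ x)⟩

theorem appLE_eq_self {D : Scheme.{u}} (U : D.Opens) (t : D ⟶ D) (ht : t = 𝟙 D) (e : U ≤ t ⁻¹ᵁ U) (a : Γ(D, U)) :
    t.appLE U U e a = a := by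
  subst ht
  change D.presheaf.map (homOfLE e).op a = a
  exact congr($(D.presheaf.map_id (op U)) a)

theorem appLE_eq_zero_iff {Z X : Scheme.{u}} (f : Z ⟶ X) (V : X.Opens) (U : Z.Opens) (e : U ≤ f ⁻¹ᵁ V)
    (e' : f ⁻¹ᵁ V ≤ U) (a : Γ(X, V)) : f.appLE V U e a = 0 ↔ f.app V a = 0 := by
  constructor
  · intro h
    have h2 := congrArg (Z.presheaf.map (homOfLE e').op) h
    rw [map_zero, ← ConcreteCategory.comp_apply, Scheme.Hom.appLE_map, Scheme.Hom.appLE] at h2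
    simpa using h2
  · intro h
    rw [Scheme.Hom.appLE, ConcreteCategory.comp_apply, h, map_zero]

/-- A first order thickening with a retraction. -/
structure Ret (C D : Scheme.{u}) where
  σ : D ⟶ C
  ρ : C ⟶ D
  closed : IsClosedImmersion σ
  surj : Surjective σ
  hσρ : σ ≫ ρ = 𝟙 D
  hsq : σ.ker ^ 2 = ⊥

namespace Ret

variable {C C' D : Scheme.{u}} (R : Ret C D) (R' : Ret C' D)

instance : IsClosedImmersion R.σ := R.closed

instance : Surjective R.σ := R.surj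

theorem preimage_eq (U : D.Opens) : R.σ ⁻¹ᵁ (R.ρ ⁻¹ᵁ U) = U := by
  rw [← Scheme.Hom.comp_preimage, R.hσρ, Scheme.Hom.id_preimage]

theorem le' (U : D.Opens) : U ≤ R.σ ⁻¹ᵁ (R.ρ ⁻¹ᵁ U) := (R.preimage_eq U).ge

theorem ge' (U : D.Opens) : R.σ ⁻¹ᵁ (R.ρ ⁻¹ᵁ U) ≤ U := (R.preimage_eq U).le

theorem kersq {V : C.Opens} (hV : IsAffineOpen V) : RingHom.ker (R.σ.app V).hom ^ 2 = ⊥ := by
  have h := congr(($(R.hsq)).ideal ⟨V, hV⟩)
  rw [Scheme.IdealSheafData.ideal_pow, Pi.pow_apply, Scheme.Hom.ker_apply, Scheme.IdealSheafData.ideal_bot] at h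
  exact h

theorem restrict_ker {U : D.Opens} :
    (R.σ ∣_ (R.ρ ⁻¹ᵁ U)).ker * (R.σ ∣_ (R.ρ ⁻¹ᵁ U)).ker = ⊥ := by
  refine le_bot_iff.1 fun W => ?_
  rw [Scheme.IdealSheafData.ideal_mul, Pi.mul_apply, Scheme.Hom.ker_apply, Ideal.mul_le]
  intro a ha b hb
  rw [Scheme.IdealSheafData.ideal_bot]
  have hW : IsAffineOpen ((R.ρ ⁻¹ᵁ U).ι ''ᵁ W.1) := W.2.image_of_isOpenImmersion _
  have key : ∀ c : Γ((R.ρ ⁻¹ᵁ U : C.Opens), W.1), (R.σ ∣_ (R.ρ ⁻¹ᵁ U)).app W.1 c = 0 →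
      R.σ.app ((R.ρ ⁻¹ᵁ U).ι ''ᵁ W.1) c = 0 := by
    intro c hc
    rw [morphismRestrict_app] at hc
    exact (ConcreteCategory.bijective_of_isIso (D.presheaf.map _)).1
      ((hc : D.presheaf.map _ (R.σ.app _ c) = 0).trans (map_zero _).symm)
  have h2 := Ideal.mul_mem_mul (I := RingHom.ker (R.σ.app _).hom) (J := RingHom.ker (R.σ.app _).hom)
    (key a ha) (key b hb)
  rw [← pow_two, R.kersq hW] at h2
  exact h2

theorem affine {U : D.Opens} (hU : IsAffineOpen U) : IsAffineOpen (R.ρ ⁻¹ᵁ U) := by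
  haveI : IsAffine (R.σ ⁻¹ᵁ (R.ρ ⁻¹ᵁ U) : D.Opens) := by rw [R.preimage_eq]; exact hU
  haveI : IsClosedImmersion (R.σ ∣_ (R.ρ ⁻¹ᵁ U)) := IsZariskiLocalAtTarget.restrict R.closed _
  haveI : Surjective (R.σ ∣_ (R.ρ ⁻¹ᵁ U)) := IsZariskiLocalAtTarget.restrict R.surj _
  exact ChevLib.isAffine_of_sq_eq_bot (R.σ ∣_ (R.ρ ⁻¹ᵁ U)) R.restrict_ker

/-- restriction to the reduced scheme -/
def red (U : D.Opens) : Γ(C, R.ρ ⁻¹ᵁ U) ⟶ Γ(D, U) := R.σ.appLE _ U (R.le' U)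

theorem red_app (U : D.Opens) (a : Γ(D, U)) : R.red U (R.ρ.app U a) = a := by
  rw [red, ← ConcreteCategory.comp_apply, Scheme.Hom.app_eq_appLE, Scheme.Hom.appLE_comp_appLE]
  exact appLE_eq_self U _ R.hσρ _ a

theorem red_res {U W : D.Opens} (h : W ≤ U) (a : Γ(C, R.ρ ⁻¹ᵁ U)) :
    R.red W (C.presheaf.map (homOfLE (R.ρ.preimage_mono h)).op a) = D.presheaf.map (homOfLE h).op (R.red U a) := by
  rw [red, red, ← ConcreteCategory.comp_apply, ← ConcreteCategory.comp_apply, Scheme.Hom.map_appLE,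
    Scheme.Hom.appLE_map]

/-- the ideal -/
def K (U : D.Opens) : Ideal Γ(C, R.ρ ⁻¹ᵁ U) := RingHom.ker (R.σ.app (R.ρ ⁻¹ᵁ U)).hom

theorem mem_K {U : D.Opens} (a : Γ(C, R.ρ ⁻¹ᵁ U)) : a ∈ R.K U ↔ R.red U a = 0 :=
  (appLE_eq_zero_iff _ _ _ _ (R.ge' U) a).symm

theorem sub_mem_K {U : D.Opens} (a : Γ(C, R.ρ ⁻¹ᵁ U)) : a - R.ρ.app U (R.red U a) ∈ R.K U := by
  rw [mem_K, map_sub, red_app, sub_self]

theorem res_mem {U W : D.Opens} (h : W ≤ U) {a : Γ(C, R.ρ ⁻¹ᵁ U)} (ha : a ∈ R.K U) :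
    C.presheaf.map (homOfLE (R.ρ.preimage_mono h)).op a ∈ R.K W := by
  rw [mem_K] at ha ⊢
  rw [red_res, ha, map_zero]
  all_goals exact h

theorem le_coborderRange (W : C.Opens) : W ≤ R.σ.coborderRange := fun x _ => by
  show x ∈ coborder (Set.range R.σ.base)
  rw [R.σ.isClosedEmbedding.isClosed_range.coborder_eq]
  trivial

/-- the class in the conormal sheaf -/
def cl (U : D.Opens) : R.K U →+ Γ(Omega.conormal R.σ, U) :=
  AddMonoidHom.mk' (fun x => (Omega.conormal R.σ).presheaf.map (homOfLE (R.le' U)).op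
      (OmegaSh.conormalSect R.σ _ (ConormalSecLib.lift R.σ _ x.1 x.2))) fun a b => by
    refine (congrArg _ ?_).trans (map_add _ _ _)
    refine Eq.trans (congrArg _ ?_) (map_add (OmegaSh.conormalSect R.σ (R.ρ ⁻¹ᵁ U)).hom _ _)
    refine ConormalSecLib.idealSect_injective R.σ _ ?_
    refine (ConormalSecLib.idealSect_lift R.σ _ _ _).trans ?_
    refine Eq.trans ?_ (map_add (OmegaSh.idealSect R.σ.ker (R.ρ ⁻¹ᵁ U)) _ _).symm
    exact congrArg₂ (· + ·) (ConormalSecLib.idealSect_lift R.σ _ a.1 a.2).symm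
      (ConormalSecLib.idealSect_lift R.σ _ b.1 b.2).symm

theorem cl_apply (U : D.Opens) (x : R.K U) :
    R.cl U x = (Omega.conormal R.σ).presheaf.map (homOfLE (R.le' U)).op
      (OmegaSh.conormalSect R.σ _ (ConormalSecLib.lift R.σ _ x.1 x.2)) := rfl

theorem cl_smul {U : D.Opens} (r : Γ(C, R.ρ ⁻¹ᵁ U)) (x : R.K U) :
    R.cl U (r • x) = R.red U r • R.cl U x := by
  refine Eq.trans ?_ (ConormalSecLib.res_conormalSect_smul R.σ (R.le' U) r _)
  rw [cl_apply]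
  refine congrArg _ (congrArg _ ?_)
  refine ConormalSecLib.idealSect_injective R.σ _ ?_
  rw [ConormalSecLib.idealSect_smul]
  erw [ConormalSecLib.idealSect_lift, ConormalSecLib.idealSect_lift]
  rfl

theorem cl_res {U W : D.Opens} (h : W ≤ U) (x : R.K U) :
    R.cl W ⟨_, R.res_mem h x.2⟩ = (Omega.conormal R.σ).presheaf.map (homOfLE h).op (R.cl U x) := by
  rw [cl_apply, cl_apply]
  refine Eq.trans (congrArg _ ?_) ((mres _ (R.σ.preimage_mono (R.ρ.preimage_mono h)) (R.le' W) _).trans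
    (mres _ (R.le' U) h _).symm)
  refine Eq.trans (congrArg _ ?_) (OmegaSh.pullSect_map R.σ _ (R.ρ.preimage_mono h) _)
  refine ConormalSecLib.idealSect_injective R.σ _ ?_
  rw [ConormalSecLib.idealSect_map]
  erw [ConormalSecLib.idealSect_lift, ConormalSecLib.idealSect_lift]

theorem cl_bijective {U : D.Opens} (hU : IsAffineOpen U) : Function.Bijective (R.cl U) := by
  have hb := mres_bij (Omega.conormal R.σ) (R.le' U) (R.ge' U)
  refine ⟨(injective_iff_map_eq_zero _).2 fun x hx => ?_, fun n => ?_⟩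
  · have h1 := ConormalInjLib.mem_ker_sq_of_conormalSect_eq_zero R.σ (R.affine hU) (R.le_coborderRange _)
      (ConormalSecLib.lift R.σ _ x.1 x.2) (hb.1 (hx.trans (map_zero _).symm))
    rw [R.kersq (R.affine hU), Ideal.mem_bot] at h1
    exact Subtype.ext ((ConormalSecLib.idealSect_lift R.σ _ x.1 x.2).symm.trans h1)
  · obtain ⟨m, rfl⟩ := hb.2 n
    obtain ⟨s, rfl⟩ := Groth.Agent.S9772.exists_conormalSect_eq R.σ (R.affine hU) m
    refine ⟨⟨OmegaSh.idealSect R.σ.ker _ s, ConormalSecLib.app_idealSect R.σ _ s⟩, ?_⟩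
    rw [cl_apply]
    refine congrArg _ (congrArg _ ?_)
    exact ConormalSecLib.idealSect_injective R.σ _ (ConormalSecLib.idealSect_lift R.σ _ _ _)

theorem mul_eq_zero {U : D.Opens} (hU : IsAffineOpen U) {a b : Γ(C, R.ρ ⁻¹ᵁ U)} (ha : a ∈ R.K U) (hb : b ∈ R.K U) :
    a * b = 0 := by
  have h : a * b ∈ RingHom.ker (R.σ.app (R.ρ ⁻¹ᵁ U)).hom ^ 2 := pow_two (R.K U) ▸ Ideal.mul_mem_mul ha hb
  rw [R.kersq (R.affine hU)] at h
  exact h

variable (θ : Omega.conormal R.σ ≅ Omega.conormal R'.σ)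

theorem existsUnique_e {U : D.Opens} (hU : IsAffineOpen U) (x : R.K U) :
    ∃! y : R'.K U, R'.cl U y = θ.hom.app U (R.cl U x) := (R'.cl_bijective hU).existsUnique _

/-- the comparison of ideals -/
def e {U : D.Opens} (hU : IsAffineOpen U) : R.K U →+ R'.K U :=
  ((AddEquiv.ofBijective (R'.cl U) (R'.cl_bijective hU)).symm.toAddMonoidHom.comp
    (θ.hom.app U).hom).comp (R.cl U)

theorem cl_e {U : D.Opens} (hU : IsAffineOpen U) (x : R.K U) :
    R'.cl U (R.e R' θ hU x) = θ.hom.app U (R.cl U x) :=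
  (AddEquiv.ofBijective (R'.cl U) (R'.cl_bijective hU)).apply_symm_apply _

theorem e_smul {U : D.Opens} (hU : IsAffineOpen U) (a : Γ(D, U)) (x : R.K U) :
    R.e R' θ hU (R.ρ.app U a • x) = R'.ρ.app U a • R.e R' θ hU x := by
  refine (R'.cl_bijective hU).1 ?_
  rw [cl_e, cl_smul, cl_smul, cl_e, red_app, red_app]
  exact Scheme.Modules.Hom.app_smul θ.hom a _

theorem e_res {U W : D.Opens} (hU : IsAffineOpen U) (hW : IsAffineOpen W) (h : W ≤ U) (x : R.K U) :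
    R.e R' θ hW ⟨_, R.res_mem h x.2⟩ = ⟨_, R'.res_mem h (R.e R' θ hU x).2⟩ := by
  refine (R'.cl_bijective hW).1 ?_
  rw [cl_e, cl_res, cl_res, cl_e]
  all_goals first | exact h | skip
  exact congr($((Scheme.Modules.Hom.mapPresheaf θ.hom).naturality (homOfLE h).op) (R.cl U x))

theorem e_e {U : D.Opens} (hU : IsAffineOpen U) (x : R.K U) : R'.e R θ.symm hU (R.e R' θ hU x) = x := by
  refine (R.cl_bijective hU).1 ?_
  rw [cl_e, cl_e]
  exact congr(($(θ.hom_inv_id)).app U (R.cl U x))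

/-- the underlying function of the comparison of rings -/
def fFun {U : D.Opens} (hU : IsAffineOpen U) (a : Γ(C, R.ρ ⁻¹ᵁ U)) : Γ(C', R'.ρ ⁻¹ᵁ U) :=
  R'.ρ.app U (R.red U a) + (R.e R' θ hU ⟨_, R.sub_mem_K a⟩).1

theorem fFun_of {U : D.Opens} (hU : IsAffineOpen U) (c : Γ(D, U)) (x : R.K U) :
    R.fFun R' θ hU (R.ρ.app U c + x) = R'.ρ.app U c + (R.e R' θ hU x).1 := by
  have h : R.red U (R.ρ.app U c + x) = c := by
    rw [map_add, red_app, (R.mem_K _).1 x.2, add_zero]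
  have hx : (⟨_, R.sub_mem_K (R.ρ.app U c + x.1)⟩ : R.K U) = x := Subtype.ext (by simp [h])
  unfold fFun
  rw [hx, h]

theorem exists_eq {U : D.Opens} (a : Γ(C, R.ρ ⁻¹ᵁ U)) :
    ∃ (c : Γ(D, U)) (x : R.K U), a = R.ρ.app U c + x :=
  ⟨R.red U a, ⟨_, R.sub_mem_K a⟩, (add_sub_cancel _ _).symm⟩

/-- the comparison of rings -/
def f {U : D.Opens} (hU : IsAffineOpen U) : Γ(C, R.ρ ⁻¹ᵁ U) ⟶ Γ(C', R'.ρ ⁻¹ᵁ U) :=
  CommRingCat.ofHom
  { toFun := R.fFun R' θ hU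
    map_one' := by
      have := R.fFun_of R' θ hU 1 0
      simpa using this
    map_zero' := by
      have := R.fFun_of R' θ hU 0 0
      simpa using this
    map_add' := fun a b => by
      obtain ⟨c, x, rfl⟩ := R.exists_eq a
      obtain ⟨d, y, rfl⟩ := R.exists_eq b
      have h : R.ρ.app U c + x + (R.ρ.app U d + y) = R.ρ.app U (c + d) + ↑(x + y) := by
        rw [map_add]; push_cast; ring
      rw [h, fFun_of, fFun_of, fFun_of, map_add, map_add]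
      push_cast
      ring
    map_mul' := fun a b => by
      obtain ⟨c, x, rfl⟩ := R.exists_eq a
      obtain ⟨d, y, rfl⟩ := R.exists_eq b
      have h : (R.ρ.app U c + x) * (R.ρ.app U d + y) =
          R.ρ.app U (c * d) + ↑(R.ρ.app U c • y + R.ρ.app U d • x) := by
        have h0 := R.mul_eq_zero hU x.2 y.2
        rw [map_mul]; push_cast; simp only [smul_eq_mul]; linear_combination h0
      rw [h, fFun_of, fFun_of, fFun_of, map_add, e_smul, e_smul, map_mul]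
      push_cast
      simp only [smul_eq_mul]
      have h0 := R'.mul_eq_zero hU (R.e R' θ hU x).2 (R.e R' θ hU y).2
      linear_combination -h0 }

theorem f_of {U : D.Opens} (hU : IsAffineOpen U) (c : Γ(D, U)) (x : R.K U) :
    R.f R' θ hU (R.ρ.app U c + x) = R'.ρ.app U c + (R.e R' θ hU x).1 := R.fFun_of R' θ hU c x

theorem app_f {U : D.Opens} (hU : IsAffineOpen U) : R.ρ.app U ≫ R.f R' θ hU = R'.ρ.app U := by
  ext c
  have := R.f_of R' θ hU c 0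
  simpa using this

theorem f_red {U : D.Opens} (hU : IsAffineOpen U) : R.f R' θ hU ≫ R'.red U = R.red U := by
  ext a
  obtain ⟨c, x, rfl⟩ := R.exists_eq a
  rw [ConcreteCategory.comp_apply, f_of, map_add, map_add, red_app, red_app, (R.mem_K _).1 x.2,
    (R'.mem_K _).1 (R.e R' θ hU x).2]

theorem f_f {U : D.Opens} (hU : IsAffineOpen U) : R.f R' θ hU ≫ R'.f R θ.symm hU = 𝟙 _ := by
  ext a
  obtain ⟨c, x, rfl⟩ := R.exists_eq a
  rw [ConcreteCategory.comp_apply, f_of, f_of, e_e]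
  rfl

theorem f_res {U W : D.Opens} (hU : IsAffineOpen U) (hW : IsAffineOpen W) (h : W ≤ U) :
    C.presheaf.map (homOfLE (R.ρ.preimage_mono h)).op ≫ R.f R' θ hW =
      R.f R' θ hU ≫ C'.presheaf.map (homOfLE (R'.ρ.preimage_mono h)).op := by
  ext a
  obtain ⟨c, x, rfl⟩ := R.exists_eq a
  have hn : ∀ {C₀ : Scheme.{u}} (ρ : C₀ ⟶ D), C₀.presheaf.map (homOfLE (ρ.preimage_mono h)).op (ρ.app U c) =
      ρ.app W (D.presheaf.map (homOfLE h).op c) := fun ρ =>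
    (congr($(ρ.naturality (homOfLE h).op) c)).symm
  rw [ConcreteCategory.comp_apply, ConcreteCategory.comp_apply, f_of, map_add (C.presheaf.map _).hom,
    map_add (C'.presheaf.map _).hom, hn R.ρ, hn R'.ρ]
  exact (R.f_of R' θ hW _ ⟨_, R.res_mem h x.2⟩).trans (congrArg _ (congrArg Subtype.val (R.e_res R' θ hU hW h x)))

/-- the local morphisms -/
def loc (U : D.affineOpens) : ((R'.ρ ⁻¹ᵁ U.1 : C'.Opens) : Scheme.{u}) ⟶ C :=
  (R'.ρ ⁻¹ᵁ U.1).toSpecΓ ≫ Spec.map (R.f R' θ U.2) ≫ (R.affine U.2).fromSpec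

theorem loc_res {U W : D.affineOpens} (h : W.1 ≤ U.1) :
    C'.homOfLE (R'.ρ.preimage_mono h) ≫ R.loc R' θ U = R.loc R' θ W := by
  unfold loc
  rw [← Scheme.Opens.toSpecΓ_SpecMap_presheaf_map_assoc _ _ (R'.ρ.preimage_mono h), ← Spec.map_comp_assoc,
    ← R.f_res R' θ U.2 W.2 h, Spec.map_comp_assoc, IsAffineOpen.map_fromSpec _ (R.affine W.2)]

theorem hom_ext_opens {X Y : Scheme.{u}} {A : X.Opens} {κ : Type u} (B : κ → X.Opens) (hB : ∀ k, B k ≤ A)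
    (hc : A ≤ ⨆ k, B k) {a b : (A : Scheme.{u}) ⟶ Y} (h : ∀ k, X.homOfLE (hB k) ≫ a = X.homOfLE (hB k) ≫ b) :
    a = b := by
  have hcov : (⨆ k, A.ι ⁻¹ᵁ B k) = ⊤ := by
    rw [← Scheme.Hom.preimage_iSup, eq_top_iff]
    intro x _
    exact hc x.2
  refine Scheme.Cover.hom_ext ((A : Scheme.{u}).openCoverOfIsOpenCover _ (IsOpenCover.mk hcov)) _ _ fun k => ?_
  have hr : Set.range ((A.ι ⁻¹ᵁ B k).ι ≫ A.ι).base ⊆ Set.range (B k).ι.base := by
    rintro _ ⟨z, rfl⟩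
    rw [Scheme.Opens.range_ι]
    exact z.2
  have he : (A.ι ⁻¹ᵁ B k).ι = IsOpenImmersion.lift (B k).ι ((A.ι ⁻¹ᵁ B k).ι ≫ A.ι) hr ≫ X.homOfLE (hB k) := by
    rw [← cancel_mono A.ι, Category.assoc, Scheme.homOfLE_ι, IsOpenImmersion.lift_fac]
  show (A.ι ⁻¹ᵁ B k).ι ≫ a = (A.ι ⁻¹ᵁ B k).ι ≫ b
  rw [he, Category.assoc, Category.assoc]
  exact congrArg _ (h k)

theorem iSup_preimage : (⨆ U : D.affineOpens, R.ρ ⁻¹ᵁ U.1) = ⊤ := by
  rw [← Scheme.Hom.preimage_iSup, iSup_affineOpens_eq_top, Scheme.Hom.preimage_top]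

theorem exists_hom : ∃ ψ : C' ⟶ C, ∀ U : D.affineOpens, (R'.ρ ⁻¹ᵁ U.1).ι ≫ ψ = R.loc R' θ U := by
  let 𝒰 := C'.openCoverOfIsOpenCover _ (IsOpenCover.mk R'.iSup_preimage)
  have hcomp : ∀ i j : D.affineOpens, pullback.fst (R'.ρ ⁻¹ᵁ i.1).ι (R'.ρ ⁻¹ᵁ j.1).ι ≫ R.loc R' θ i =
      pullback.snd (R'.ρ ⁻¹ᵁ i.1).ι (R'.ρ ⁻¹ᵁ j.1).ι ≫ R.loc R' θ j := by
    intro i j
    let p := pullback.fst (R'.ρ ⁻¹ᵁ i.1).ι (R'.ρ ⁻¹ᵁ j.1).ι ≫ (R'.ρ ⁻¹ᵁ i.1).ι
    have hr : Set.range p.base ⊆ Set.range ((R'.ρ ⁻¹ᵁ i.1) ⊓ (R'.ρ ⁻¹ᵁ j.1)).ι.base := by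
      rintro _ ⟨z, rfl⟩
      rw [Scheme.Opens.range_ι]
      refine ⟨((pullback.fst (R'.ρ ⁻¹ᵁ i.1).ι (R'.ρ ⁻¹ᵁ j.1).ι).base z).2, ?_⟩
      simp only [p, pullback.condition]
      exact ((pullback.snd (R'.ρ ⁻¹ᵁ i.1).ι (R'.ρ ⁻¹ᵁ j.1).ι).base z).2
    let q := IsOpenImmersion.lift ((R'.ρ ⁻¹ᵁ i.1) ⊓ (R'.ρ ⁻¹ᵁ j.1)).ι p hr
    have h1 : pullback.fst (R'.ρ ⁻¹ᵁ i.1).ι (R'.ρ ⁻¹ᵁ j.1).ι = q ≫ C'.homOfLE inf_le_left := by
      rw [← cancel_mono (R'.ρ ⁻¹ᵁ i.1).ι, Category.assoc, Scheme.homOfLE_ι, IsOpenImmersion.lift_fac]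
    have h2 : pullback.snd (R'.ρ ⁻¹ᵁ i.1).ι (R'.ρ ⁻¹ᵁ j.1).ι = q ≫ C'.homOfLE inf_le_right := by
      rw [← cancel_mono (R'.ρ ⁻¹ᵁ j.1).ι, Category.assoc, Scheme.homOfLE_ι, IsOpenImmersion.lift_fac]
      exact pullback.condition.symm
    rw [h1, h2, Category.assoc, Category.assoc]
    congr 1
    refine hom_ext_opens (fun W : {W : D.affineOpens // W.1 ≤ i.1 ∧ W.1 ≤ j.1} => R'.ρ ⁻¹ᵁ W.1.1)
      (fun W => le_inf (R'.ρ.preimage_mono W.2.1) (R'.ρ.preimage_mono W.2.2)) ?_ fun W => ?_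
    · intro x hx
      obtain ⟨_, ⟨W, hW, rfl⟩, hxW, hWU⟩ :=
        D.isBasis_affineOpens.exists_subset_of_mem_open (show R'.ρ x ∈ i.1 ⊓ j.1 from hx) (i.1 ⊓ j.1).isOpen
      exact Opens.mem_iSup.2 ⟨⟨⟨W, hW⟩, fun z hz => (hWU hz).1, fun z hz => (hWU hz).2⟩, hxW⟩
    · simp only [Scheme.homOfLE_homOfLE_assoc]
      rw [R.loc_res R' θ W.2.1, R.loc_res R' θ W.2.2]
  exact ⟨𝒰.glueMorphisms (fun U => R.loc R' θ U) hcomp, fun U => 𝒰.ι_glueMorphisms (fun U => R.loc R' θ U) hcomp U⟩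

theorem fromSpec_comp {ψ : C' ⟶ C} (hψ : ∀ U : D.affineOpens, (R'.ρ ⁻¹ᵁ U.1).ι ≫ ψ = R.loc R' θ U)
    (U : D.affineOpens) : (R'.affine U.2).fromSpec ≫ ψ = Spec.map (R.f R' θ U.2) ≫ (R.affine U.2).fromSpec := by
  rw [← cancel_epi (R'.affine U.2).isoSpec.hom, ← Category.assoc, IsAffineOpen.isoSpec_hom,
    IsAffineOpen.toSpecΓ_fromSpec, hψ]
  rfl

theorem hom_ext_affine {Y : Scheme.{u}} {a b : C ⟶ Y}
    (h : ∀ U : D.affineOpens, (R.affine U.2).fromSpec ≫ a = (R.affine U.2).fromSpec ≫ b) : a = b := by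
  refine Scheme.Cover.hom_ext (C.openCoverOfIsOpenCover _ (IsOpenCover.mk R.iSup_preimage)) _ _ fun (U : D.affineOpens) => ?_
  show (R.ρ ⁻¹ᵁ U.1).ι ≫ a = (R.ρ ⁻¹ᵁ U.1).ι ≫ b
  rw [← (R.affine U.2).toSpecΓ_fromSpec, Category.assoc, Category.assoc, h]

theorem fromSpec_ρ (U : D.affineOpens) :
    (R.affine U.2).fromSpec ≫ R.ρ = Spec.map (R.ρ.app U.1) ≫ U.2.fromSpec := by
  rw [Scheme.Hom.app_eq_appLE, U.2.SpecMap_appLE_fromSpec R.ρ (R.affine U.2)]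

theorem fromSpec_σ (U : D.affineOpens) :
    U.2.fromSpec ≫ R.σ = Spec.map (R.red U.1) ≫ (R.affine U.2).fromSpec :=
  ((R.affine U.2).SpecMap_appLE_fromSpec R.σ U.2 (R.le' U.1)).symm

include θ in
/-- Split first order thickenings with isomorphic conormal sheaves are isomorphic. -/
theorem exists_iso : ∃ ψ : C ≅ C', R.σ ≫ ψ.hom = R'.σ ∧ ψ.hom ≫ R'.ρ = R.ρ := by
  obtain ⟨a, ha⟩ := R.exists_hom R' θ
  obtain ⟨b, hb⟩ := R'.exists_hom R θ.symm
  refine ⟨⟨b, a, R.hom_ext_affine fun U => ?_, R'.hom_ext_affine fun U => ?_⟩, ?_, R.hom_ext_affine fun U => ?_⟩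
  · rw [← Category.assoc, R'.fromSpec_comp R θ.symm hb, Category.assoc, R.fromSpec_comp R' θ ha,
      ← Spec.map_comp_assoc, R.f_f R' θ U.2, Spec.map_id, Category.id_comp, Category.comp_id]
  · rw [← Category.assoc, R.fromSpec_comp R' θ ha, Category.assoc, R'.fromSpec_comp R θ.symm hb,
      ← Spec.map_comp_assoc]
    have h := R'.f_f R θ.symm U.2
    rw [Iso.symm_symm_eq] at h
    rw [h, Spec.map_id, Category.id_comp, Category.comp_id]
  · refine Scheme.Cover.hom_ext (D.openCoverOfIsOpenCover (fun U : D.affineOpens => U.1)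
      (IsOpenCover.mk (iSup_affineOpens_eq_top D))) _ _ fun (U : D.affineOpens) => ?_
    show U.1.ι ≫ _ = U.1.ι ≫ _
    rw [← U.2.toSpecΓ_fromSpec, Category.assoc, Category.assoc, ← Category.assoc U.2.fromSpec,
      fromSpec_σ, Category.assoc, fromSpec_σ, R'.fromSpec_comp R θ.symm hb, ← Spec.map_comp_assoc,
      R'.f_red R θ.symm U.2]
  · show (R.affine U.2).fromSpec ≫ b ≫ R'.ρ = _
    rw [← Category.assoc, R'.fromSpec_comp R θ.symm hb, Category.assoc, fromSpec_ρ, fromSpec_ρ,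
      ← Spec.map_comp_assoc, R'.app_f R θ.symm U.2]

end Ret

theorem ker_iso_comp {C D Z : Scheme.{u}} (e : D ≅ Z) (i : Z ⟶ C) [IsClosedImmersion i] :
    (e.hom ≫ i).ker = i.ker := by
  refine Scheme.IdealSheafData.ext (funext fun U => ?_)
  rw [Scheme.Hom.ker_apply, Scheme.Hom.ker_apply]
  refine Ideal.ext fun x => ?_
  rw [RingHom.mem_ker, RingHom.mem_ker, Scheme.Hom.comp_app]
  exact ⟨fun h => (ConcreteCategory.bijective_of_isIso (e.hom.app (i ⁻¹ᵁ U.1))).1 (h.trans (map_zero _).symm),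
    fun h => by
      show e.hom.app _ (i.app _ x) = 0
      rw [h, map_zero]⟩

theorem ker_data {C D : Scheme.{u}} (I : C.IdealSheafData) (φ : I.subscheme ≅ D) :
    (φ.inv ≫ I.subschemeι).ker = I :=
  (ker_iso_comp φ.symm I.subschemeι).trans I.ker_subschemeι

theorem surjective_of_sq {C D : Scheme.{u}} (I : C.IdealSheafData) (hI : I ^ 2 = ⊥) (φ : I.subscheme ≅ D) :
    Surjective (φ.inv ≫ I.subschemeι) := by
  haveI : Surjective I.subschemeι := ⟨fun z => by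
    have h1 : z ∈ Set.range I.subschemeι.base := by
      rw [Scheme.IdealSheafData.range_subschemeι]
      have h2 : (I ^ 2).support = I.support := Scheme.IdealSheafData.support_pow I 2 (by norm_num)
      rw [hI, Scheme.IdealSheafData.support_bot] at h2
      rw [← h2]
      trivial
    exact h1⟩
  infer_instance

theorem exists_iso_of_ker {C C' D : Scheme.{u}} (σ : D ⟶ C) (σ' : D ⟶ C') [IsClosedImmersion σ] [IsClosedImmersion σ']
    [Surjective σ] [Surjective σ'] (ρ : C ⟶ D) (ρ' : C' ⟶ D) (h : σ ≫ ρ = 𝟙 D) (h' : σ' ≫ ρ' = 𝟙 D)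
    (I : C.IdealSheafData) (hI : σ.ker = I) (hI2 : I ^ 2 = ⊥)
    (I' : C'.IdealSheafData) (hI' : σ'.ker = I') (hI2' : I' ^ 2 = ⊥)
    (θ : (Scheme.Modules.pullback σ).obj (ClSub.idealMod I) ≅ (Scheme.Modules.pullback σ').obj (ClSub.idealMod I')) :
    ∃ ψ : C ≅ C', σ ≫ ψ.hom = σ' ∧ ψ.hom ≫ ρ' = ρ := by
  subst hI hI'
  exact Ret.exists_iso ⟨σ, ρ, inferInstance, inferInstance, h, hI2⟩ ⟨σ', ρ', inferInstance, inferInstance, h', hI2'⟩ θ

end RibbonIsoLib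

end
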